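import Groth.Agent.Lib.AlgSpGlue.SpOver
import Groth.Agent.H48.GlueExist
import Groth.Agent.H48.GlueSetup
import Mathlib.RingTheory.RingHom.Etale

/-!
# Glueing morphisms from an affine scheme to a space with affine diagonal along a glueing pair

* `exists_chart`: a quasi-compact part of a space is covered by one etale affine chart;
* `exists_glue_hom`: maps on the two pieces of a glueable affine scheme come from one map.
-/

universe u

open CategoryTheory CategoryTheory.Limits AlgebraicGeometry TensorProduct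
open AlgSp (Sp yon RepWith IsAlgSpace Points)

set_option linter.style.haveILetI false

namespace Groth.Agent.Lib.AlgSpGlue

variable {R : Type u} [CommRing R] {R' : Type u} [CommRing R'] [Algebra R R'] {f : R}

/-- A quasi-compact set of points lies in the image of one etale affine chart. -/
theorem exists_chart {Z : Sp (B R)} (hZ : IsAlgSpace Z) {K : Set (Points Z)} (hK : IsCompact K) :
    ∃ (C : Type u) (_ : CommRing C) (_ : Algebra R C) (w : (yon (B R)).obj (O R C) ⟶ Z),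
      RepWith @Etale w ∧ K ⊆ Set.range (Points.ofPt w) := by
  obtain ⟨U, p, hpe, hps⟩ := hZ.atlas
  let j : ∀ W : U.left.affineOpens, Over.mk (W.1.ι ≫ U.hom) ⟶ U := fun W => Over.homMk W.1.ι rfl
  have hop : ∀ W, IsOpen (Set.range (Points.ofPt ((yon (B R)).map (j W) ≫ p))) := fun W =>
    (Lib.AlgSpace.isOpenMap_ofPt (Lib.AlgSpace.repWith_yon_map_comp (P := @Etale)
      (inferInstanceAs (Etale W.1.ι)) hpe)).isOpen_range
  obtain ⟨t, ht⟩ := hK.elim_finite_subcover _ hop (fun z _ => by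
    obtain ⟨x, rfl⟩ := Lib.AlgSpace.surjective_ofPt hps z
    obtain ⟨W, hW, hxW, -⟩ := exists_isAffineOpen_mem_and_subset (X := U.left) (x := x) (U := ⊤) trivial
    exact Set.mem_iUnion.2 ⟨⟨W, hW⟩, ⟨x, hxW⟩, Lib.AlgSpace.ofPt_yon_map_comp _ _ _⟩)
  haveI : ∀ W : t, IsAffine ((W.1.1 : U.left.Opens) : Scheme.{u}) := fun W => W.1.2
  let W₀ : Over (B R) := Over.mk (Sigma.desc (fun W : t => W.1.1.ι) ≫ U.hom)
  haveI : IsAffine W₀.left := inferInstanceAs (IsAffine (∐ fun W : t => (W.1.1 : Scheme.{u})))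
  let d : W₀ ⟶ U := Over.homMk (Sigma.desc (fun W : t => W.1.1.ι)) rfl
  have hd : Etale d.left :=
    IsZariskiLocalAtSource.sigmaDesc (P := @Etale) fun W => (inferInstanceAs (Etale W.1.1.ι))
  obtain ⟨C, _, _, ⟨e⟩⟩ := exists_iso_O W₀
  haveI : IsIso e.hom.left := inferInstanceAs (IsIso ((Over.forget _).map e.hom))
  have hed : Etale (e.hom ≫ d).left := inferInstanceAs (Etale (e.hom.left ≫ d.left))
  refine ⟨C, inferInstance, inferInstance, (yon (B R)).map (e.hom ≫ d) ≫ p,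
    Lib.AlgSpace.repWith_yon_map_comp (P := @Etale) hed hpe, fun z hz => ?_⟩
  obtain ⟨W, hW, x, rfl⟩ : ∃ W ∈ t, z ∈ Set.range (Points.ofPt ((yon (B R)).map (j W) ≫ p)) := by
    obtain ⟨W, hW, h⟩ := Set.mem_iUnion₂.1 (ht hz)
    exact ⟨W, hW, h⟩
  refine ⟨e.inv.left (Sigma.ι (fun W : t => (W.1.1 : Scheme.{u})) ⟨W, hW⟩ x), ?_⟩
  rw [Lib.AlgSpace.ofPt_yon_map_comp, Lib.AlgSpace.ofPt_yon_map_comp]
  congr 1
  show (e.hom.left ≫ d.left) (e.inv.left _) = W.1.ι x
  rw [← Scheme.Hom.comp_apply, ← Scheme.Hom.comp_apply]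
  congr 1
  rw [← Over.comp_left_assoc, e.inv_hom_id]
  simp [d]

theorem map_comp_bc {A A₂ : Type u} [CommRing A] [Algebra R A] [CommRing A₂] [Algebra R A₂]
    (φ : A →ₐ[R] A₂) :
    (Algebra.TensorProduct.map (AlgHom.id R R') φ).comp (bc R' A) = (bc R' A₂).comp φ :=
  Algebra.TensorProduct.map_comp_includeRight _ _

theorem lift_bc {A P : Type u} [CommRing A] [Algebra R A] [CommRing P] [Algebra R P]
    (φ : R' →ₐ[R] P) (b : A →ₐ[R] P) :
    (Algebra.TensorProduct.lift φ b (fun _ _ => Commute.all _ _)).comp (bc R' A) = b :=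
  AlgHom.ext fun x => by simp

/-- The unit in the localization. -/
theorem isUnit_af (A : Type u) [CommRing A] [Algebra R A] :
    IsUnit (algebraMap R (Af A f) f) := by
  rw [IsScalarTower.algebraMap_apply R A (Af A f)]
  exact IsLocalization.Away.algebraMap_isUnit _

theorem isUnit_image {A D : Type u} [CommRing A] [Algebra R A] [CommRing D] [Algebra R D]
    (φ : A →ₐ[R] D) (h : IsUnit (algebraMap R D f)) : IsUnit (φ (algebraMap R A f)) := by
  rwa [φ.commutes]

/-- The extension of an algebra map to the localization at `f`. -/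
noncomputable def liftAf {A D : Type u} [CommRing A] [Algebra R A] [CommRing D] [Algebra R D]
    (φ : A →ₐ[R] D) (h : IsUnit (algebraMap R D f)) : Af A f →ₐ[R] D :=
  IsLocalization.Away.liftAlgHom (algebraMap R A f) (isUnit_image φ h)

theorem liftAf_comp {A D : Type u} [CommRing A] [Algebra R A] [CommRing D] [Algebra R D]
    (φ : A →ₐ[R] D) (h : IsUnit (algebraMap R D f)) : (liftAf φ h).comp (loc A f) = φ := by
  refine AlgHom.ext fun a => ?_
  show (IsLocalization.Away.lift (algebraMap R A f) (g := φ.toRingHom) (isUnit_image φ h))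
    (algebraMap A (Af A f) a) = φ.toRingHom a
  rw [IsLocalization.Away.lift_eq]

theorem algHom_ext_af {A D : Type u} [CommRing A] [Algebra R A] [CommRing D] [Algebra R D]
    {x y : Af A f →ₐ[R] D} (h : x.comp (loc A f) = y.comp (loc A f)) : x = y :=
  IsLocalization.algHom_ext (Submonoid.powers (algebraMap R A f)) h

/-- The self fibre product of `Spec M → Spec A`. -/
theorem isPullback_sp_tensor (A M : Type u) [CommRing A] [Algebra R A] [CommRing M] [Algebra R M]
    [Algebra A M] [IsScalarTower R A M] :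
    IsPullback (sp ((Algebra.TensorProduct.includeLeft : M →ₐ[A] M ⊗[A] M).restrictScalars R))
      (sp ((Algebra.TensorProduct.includeRight : M →ₐ[A] M ⊗[A] M).restrictScalars R))
      (sp (IsScalarTower.toAlgHom R A M)) (sp (IsScalarTower.toAlgHom R A M)) := by
  refine IsPullback.of_map (Over.forget (B R)) ?_
    (isPullback_SpecMap_of_isPushout _ _ _ _ (CommRingCat.isPushout_tensorProduct A M M))
  rw [← sp_comp, ← sp_comp]
  exact congrArg sp (AlgHom.ext fun a =>
    ((Algebra.TensorProduct.includeLeft : M →ₐ[A] M ⊗[A] M).commutes a).trans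
      ((Algebra.TensorProduct.includeRight : M →ₐ[A] M ⊗[A] M).commutes a).symm)

theorem exists_lift_away {M B₁ D : Type u} [CommRing M] [Algebra R M] [CommRing B₁] [Algebra R B₁]
    (q : M →ₐ[R] B₁) (hq : @IsLocalization.Away M _ (algebraMap R M f) B₁ _ q.toRingHom.toAlgebra)
    [CommRing D] [Algebra R D] (φ : M →ₐ[R] D) (h : IsUnit (algebraMap R D f)) :
    ∃ e : B₁ →ₐ[R] D, φ = e.comp q := by
  letI : Algebra M B₁ := q.toRingHom.toAlgebra
  haveI : IsLocalization.Away (algebraMap R M f) B₁ := hq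
  let l : B₁ →+* D := IsLocalization.Away.lift (algebraMap R M f) (g := φ.toRingHom) (isUnit_image φ h)
  have hl : ∀ m : M, l (algebraMap M B₁ m) = φ m := fun m => IsLocalization.Away.lift_eq _ _ m
  exact ⟨AlgHom.mk l fun r => by rw [← q.commutes r]; exact (hl _).trans (φ.commutes r),
    AlgHom.ext fun m => (hl m).symm⟩

/-- Descent along an etale cover by a glueable affine scheme. -/
theorem descend_glue (hg : EtGlue.IsGlueingPair R R' f) {Z : Sp (B R)} (hZ : IsAlgSpace Z)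
    {A M B₁ B' : Type u} [CommRing A] [Algebra R A] [CommRing M] [Algebra R M] [CommRing B₁]
    [Algebra R B₁] [CommRing B'] [Algebra R B'] [Algebra R' B'] [IsScalarTower R R' B']
    (hM : EtGlue.IsGlueable R R' f M) (γ : A →ₐ[R] M) (hγ : γ.toRingHom.Etale)
    (q₁ : M →ₐ[R] B₁) (q' : M →ₐ[R] B')
    (hlocM : @IsLocalization.Away M _ (algebraMap R M f) B₁ _ q₁.toRingHom.toAlgebra)
    (π : R' ⊗[R] M →ₐ[R'] B') (hπ₁ : ∀ m, π ((1 : R') ⊗ₜ[R] m) = q' m) (hπ : Function.Bijective π)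
    {α₁ : Af A f →ₐ[R] B₁} {α₂ : R' ⊗[R] A →ₐ[R] B'}
    (hqγ₁ : q₁.comp γ = α₁.comp (loc A f)) (hqγ' : q'.comp γ = α₂.comp (bc R' A))
    (hα₂ : ∀ r : R', α₂ (r ⊗ₜ[R] (1 : A)) = algebraMap R' B' r)
    [Epi ((yon (B R)).map (sp α₁))] [Epi ((yon (B R)).map (sp α₂))]
    (s : (yon (B R)).obj (O R M) ⟶ Z)
    (u₁ : (yon (B R)).obj (O R (Af A f)) ⟶ Z) (u₂ : (yon (B R)).obj (O R (R' ⊗[R] A)) ⟶ Z)
    (hs₁ : (yon (B R)).map (sp q₁) ≫ s = (yon (B R)).map (sp α₁) ≫ u₁)
    (hs' : (yon (B R)).map (sp q') ≫ s = (yon (B R)).map (sp α₂) ≫ u₂)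
    (hcov : Lib.AlgSpace.fppfCover (sp γ).left) :
    ∃ v : (yon (B R)).obj (O R A) ⟶ Z, (yon (B R)).map (sp (loc A f)) ≫ v = u₁ ∧
      (yon (B R)).map (sp (bc R' A)) ≫ v = u₂ := by
  letI : Algebra M B₁ := q₁.toRingHom.toAlgebra
  haveI : IsLocalization.Away (algebraMap R M f) B₁ := hlocM
  haveI : Sheaf.IsLocallySurjective ((yon (B R)).map (sp γ)) :=
    Lib.AlgSpace.isLocallySurjective_yon_map _ hcov
  -- descent
  letI : Algebra A M := γ.toRingHom.toAlgebra
  haveI : IsScalarTower R A M := IsScalarTower.of_algebraMap_eq fun r => (γ.commutes r).symm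
  haveI : Algebra.Etale A M := hγ
  haveI : Module.Flat A M := inferInstance
  let ι₁ : M →ₐ[R] M ⊗[A] M := (Algebra.TensorProduct.includeLeft : M →ₐ[A] M ⊗[A] M).restrictScalars R
  let ι₂ : M →ₐ[R] M ⊗[A] M := (Algebra.TensorProduct.includeRight : M →ₐ[A] M ⊗[A] M).restrictScalars R
  have hιγ : ι₁.comp γ = ι₂.comp γ :=
    AlgHom.ext fun a => ((Algebra.TensorProduct.includeLeft : M →ₐ[A] M ⊗[A] M).commutes a).trans
      ((Algebra.TensorProduct.includeRight : M →ₐ[A] M ⊗[A] M).commutes a).symm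
  have hγe : IsScalarTower.toAlgHom R A M = γ := AlgHom.ext fun _ => rfl
  have sqN := isPullback_sp_tensor (R := R) A M
  rw [hγe] at sqN
  have hN : EtGlue.IsGlueable R R' f (M ⊗[A] M) :=
    (glueable_iff hg).2 (torsion_eq_zero_of_flat (A := M) ((glueable_iff hg).1 hM))
  have hcompat : (yon (B R)).map (sp ι₁) ≫ s = (yon (B R)).map (sp ι₂) ≫ s := by
    refine eq_of_agree hg hZ hN _ _ ?_ ?_
    · have ext₁ := fun ι : M →ₐ[R] M ⊗[A] M => exists_lift_away q₁ hlocM ((loc (M ⊗[A] M) f).comp ι) (isUnit_af _)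
      obtain ⟨x, hx⟩ := ext₁ ι₁
      obtain ⟨y, hy⟩ := ext₁ ι₂
      rw [← yon_sp_comp, ← yon_sp_comp, hx, hy, yon_sp_comp, yon_sp_comp, hs₁, ← yon_sp_comp,
        ← yon_sp_comp]
      refine congrArg (fun k => (yon (B R)).map (sp k) ≫ u₁) (algHom_ext_af ?_)
      show (x.comp α₁).comp (loc A f) = (y.comp α₁).comp (loc A f)
      rw [AlgHom.comp_assoc, AlgHom.comp_assoc, ← hqγ₁, ← AlgHom.comp_assoc, ← AlgHom.comp_assoc,
        ← hx, ← hy, AlgHom.comp_assoc, AlgHom.comp_assoc, hιγ]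
    · let πe : R' ⊗[R] M ≃ₐ[R'] B' := AlgEquiv.ofBijective π hπ
      let E : (ι : M →ₐ[R] M ⊗[A] M) → (B' →ₐ[R] R' ⊗[R] (M ⊗[A] M)) := fun ι =>
        (Algebra.TensorProduct.map (AlgHom.id R R') ι).comp (πe.symm.toAlgHom.restrictScalars R)
      have hq : ∀ m : M, πe.symm (q' m) = (1 : R') ⊗ₜ[R] m := fun m => by
        apply πe.injective
        rw [AlgEquiv.apply_symm_apply]
        exact (hπ₁ m).symm
      have hE : ∀ ι : M →ₐ[R] M ⊗[A] M, (bc R' (M ⊗[A] M)).comp ι = (E ι).comp q' := fun ι =>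
        AlgHom.ext fun m => by
          show (1 : R') ⊗ₜ[R] ι m = Algebra.TensorProduct.map (AlgHom.id R R') ι (πe.symm (q' m))
          rw [hq, Algebra.TensorProduct.map_tmul]
          rfl
      suffices hh : (E ι₁).comp α₂ = (E ι₂).comp α₂ by
        have h3 : ∀ ι : M →ₐ[R] M ⊗[A] M, (yon (B R)).map (sp (bc R' (M ⊗[A] M))) ≫ (yon (B R)).map (sp ι) ≫ s =
            (yon (B R)).map (sp ((E ι).comp α₂)) ≫ u₂ := fun ι => by
          rw [← yon_sp_comp, hE ι, yon_sp_comp, hs', ← yon_sp_comp]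
        rw [h3, h3, hh]
      refine Algebra.TensorProduct.ext (AlgHom.ext fun r => ?_) ?_
      · show E ι₁ (α₂ (r ⊗ₜ[R] (1 : A))) = E ι₂ (α₂ (r ⊗ₜ[R] (1 : A)))
        rw [hα₂]
        show Algebra.TensorProduct.map (AlgHom.id R R') ι₁ (πe.symm (algebraMap R' B' r)) =
          Algebra.TensorProduct.map (AlgHom.id R R') ι₂ (πe.symm (algebraMap R' B' r))
        rw [AlgEquiv.commutes, Algebra.TensorProduct.algebraMap_apply, Algebra.TensorProduct.map_tmul,
          Algebra.TensorProduct.map_tmul, map_one, map_one]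
      · show ((E ι₁).comp α₂).comp (bc R' A) = ((E ι₂).comp α₂).comp (bc R' A)
        have h4 : ∀ ι : M →ₐ[R] M ⊗[A] M, ((E ι).comp α₂).comp (bc R' A) = (bc R' (M ⊗[A] M)).comp (ι.comp γ) :=
          fun ι => by rw [AlgHom.comp_assoc, ← hqγ', ← AlgHom.comp_assoc, ← hE ι, AlgHom.comp_assoc]
        rw [h4, h4, hιγ]
  obtain ⟨v, hv⟩ := Lib.AlgSpace.exists_desc ((yon (B R)).map (sp γ))
    (Lib.AlgSpace.isPullback_yon sqN) s hcompat
  refine ⟨v, ?_, ?_⟩
  · rw [← cancel_epi ((yon (B R)).map (sp α₁)), ← yon_sp_comp, ← hqγ₁, yon_sp_comp, hv, hs₁]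
  · rw [← cancel_epi ((yon (B R)).map (sp α₂)), ← yon_sp_comp, ← hqγ', yon_sp_comp, hv, hs']

/-- Maps on the two pieces of a glueable affine scheme come from one map. -/
theorem exists_glue_hom (hg : EtGlue.IsGlueingPair R R' f) {Z : Sp (B R)} (hZ : IsAlgSpace Z)
    (hd : AlgSp.IsAffineMor (Limits.diag Z)) {A : Type u} [CommRing A] [Algebra R A]
    (hA : EtGlue.IsGlueable R R' f A) (u₁ : (yon (B R)).obj (O R (Af A f)) ⟶ Z)
    (u₂ : (yon (B R)).obj (O R (R' ⊗[R] A)) ⟶ Z)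
    (hagree : ∀ (T : Over (B R)) (k₁ : T ⟶ O R (Af A f)) (k₂ : T ⟶ O R (R' ⊗[R] A)),
      k₁ ≫ sp (loc A f) = k₂ ≫ sp (bc R' A) → (yon (B R)).map k₁ ≫ u₁ = (yon (B R)).map k₂ ≫ u₂) :
    ∃ v : (yon (B R)).obj (O R A) ⟶ Z, (yon (B R)).map (sp (loc A f)) ≫ v = u₁ ∧
      (yon (B R)).map (sp (bc R' A)) ≫ v = u₂ := by
  haveI : CompactSpace ↥(O R (Af A f)).left := inferInstanceAs (CompactSpace ↥(Spec (CommRingCat.of (Af A f))))
  haveI : CompactSpace ↥(O R (R' ⊗[R] A)).left := inferInstanceAs (CompactSpace ↥(Spec (CommRingCat.of (R' ⊗[R] A))))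
  obtain ⟨C, _, _, w, hw, hK⟩ := exists_chart hZ
    ((isCompact_range (Points.continuous_ofPt u₁)).union (isCompact_range (Points.continuous_ofPt u₂)))
  obtain ⟨B₁, _, _, χ₁, α₁, sq₁⟩ := exists_affine_pullback hZ hd w u₁
  obtain ⟨B', _, _, χ₂, α₂, sq₂⟩ := exists_affine_pullback hZ hd w u₂
  have het₁ : Etale (sp α₁).left := Lib.AlgSpace.repWith_property hw sq₁
  have het₂ : Etale (sp α₂).left := Lib.AlgSpace.repWith_property hw sq₂
  letI : Algebra R' B' := (α₂.toRingHom.comp Algebra.TensorProduct.includeLeftRingHom).toAlgebra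
  haveI : IsScalarTower R R' B' := IsScalarTower.of_algebraMap_eq fun r => (α₂.commutes r).symm
  have hf₁ : IsUnit (algebraMap R B₁ f) := by
    rw [← α₁.commutes f]
    exact (isUnit_af A).map α₁
  -- the comparison `β : B' → R' ⊗ B₁`
  let a₂ : R' ⊗[R] A →ₐ[R] R' ⊗[R] B₁ :=
    Algebra.TensorProduct.map (AlgHom.id R R') (α₁.comp (loc A f))
  have e₂ : (yon (B R)).map (sp ((bc R' B₁).comp α₁)) ≫ u₁ = (yon (B R)).map (sp a₂) ≫ u₂ := by
    refine hagree _ _ _ ?_
    rw [← sp_comp, ← sp_comp]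
    exact congrArg sp (map_comp_bc (α₁.comp (loc A f))).symm
  obtain ⟨kβ, hkβ⟩ := (yon (B R)).map_surjective (sq₂.lift
    ((yon (B R)).map (sp ((bc R' B₁).comp χ₁))) ((yon (B R)).map (sp a₂))
    (by rw [yon_sp_comp, sq₁.w, ← yon_sp_comp, e₂]))
  obtain ⟨β, rfl⟩ := exists_sp kβ
  have hβχ : β.comp χ₂ = (bc R' B₁).comp χ₁ := sp_injective ((yon (B R)).map_injective (by
    rw [sp_comp, Functor.map_comp, hkβ, sq₂.lift_fst]))
  have hβα : β.comp α₂ = a₂ := sp_injective ((yon (B R)).map_injective (by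
    rw [sp_comp, Functor.map_comp, hkβ, sq₂.lift_snd]))
  -- the inverse after inverting `f`
  let D := Af B' f
  let ℓ : B' →ₐ[R] D := loc B' f
  let aD : A →ₐ[R] D := (ℓ.comp α₂).comp (bc R' A)
  let a₁ : Af A f →ₐ[R] D := liftAf aD (isUnit_af B')
  have ha₁ : a₁.comp (loc A f) = aD := liftAf_comp _ _
  have e₁ : (yon (B R)).map (sp a₁) ≫ u₁ = (yon (B R)).map (sp (ℓ.comp α₂)) ≫ u₂ := by
    refine hagree _ _ _ ?_
    rw [← sp_comp, ← sp_comp, ha₁]
  obtain ⟨kb, hkb⟩ := (yon (B R)).map_surjective (sq₁.lift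
    ((yon (B R)).map (sp (ℓ.comp χ₂))) ((yon (B R)).map (sp a₁))
    (by rw [yon_sp_comp, sq₂.w, ← yon_sp_comp, e₁]))
  obtain ⟨b, rfl⟩ := exists_sp kb
  have hbχ : b.comp χ₁ = ℓ.comp χ₂ := sp_injective ((yon (B R)).map_injective (by
    rw [sp_comp, Functor.map_comp, hkb, sq₁.lift_fst]))
  have hbα : b.comp α₁ = a₁ := sp_injective ((yon (B R)).map_injective (by
    rw [sp_comp, Functor.map_comp, hkb, sq₁.lift_snd]))
  let ψ : R' ⊗[R] B₁ →ₐ[R] D :=
    Algebra.TensorProduct.lift ((ℓ.comp α₂).comp Algebra.TensorProduct.includeLeft) b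
      (fun _ _ => Commute.all _ _)
  have hext₂ : ∀ {P : Type u} [CommRing P] [Algebra R P] (x y : B' →ₐ[R] P),
      x.comp χ₂ = y.comp χ₂ → x.comp α₂ = y.comp α₂ → x = y := fun x y h₁ h₂ =>
    sp_injective ((yon (B R)).map_injective (sq₂.hom_ext
      (by rw [← Functor.map_comp, ← Functor.map_comp, ← sp_comp, ← sp_comp, h₁])
      (by rw [← Functor.map_comp, ← Functor.map_comp, ← sp_comp, ← sp_comp, h₂])))
  have hext₁ : ∀ {P : Type u} [CommRing P] [Algebra R P] (x y : B₁ →ₐ[R] P),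
      x.comp χ₁ = y.comp χ₁ → x.comp α₁ = y.comp α₁ → x = y := fun x y h₁ h₂ =>
    sp_injective ((yon (B R)).map_injective (sq₁.hom_ext
      (by rw [← Functor.map_comp, ← Functor.map_comp, ← sp_comp, ← sp_comp, h₁])
      (by rw [← Functor.map_comp, ← Functor.map_comp, ← sp_comp, ← sp_comp, h₂])))
  have hψβ : ψ.comp β = ℓ := by
    refine hext₂ _ _ ?_ ?_
    · rw [AlgHom.comp_assoc, hβχ, ← AlgHom.comp_assoc]
      show (((Algebra.TensorProduct.lift _ b _).comp (bc R' B₁)).comp χ₁) = _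
      rw [lift_bc]
      exact hbχ
    · rw [AlgHom.comp_assoc, hβα]
      refine Algebra.TensorProduct.ext (AlgHom.ext fun r => ?_) ?_
      · simp [ψ, a₂]
      · show (ψ.comp a₂).comp (bc R' A) = aD
        rw [AlgHom.comp_assoc, map_comp_bc, ← AlgHom.comp_assoc, lift_bc, ← AlgHom.comp_assoc, hbα,
          ha₁]
  have hf' : IsUnit (algebraMap R (R' ⊗[R] B₁) f) := by
    rw [← (bc R' B₁).commutes f]
    exact hf₁.map (bc R' B₁)
  let βf : D →ₐ[R] R' ⊗[R] B₁ := liftAf β hf'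
  have hβf : βf.comp ℓ = β := liftAf_comp _ _
  have hβψ : βf.comp ψ = AlgHom.id R _ := by
    refine Algebra.TensorProduct.ext (AlgHom.ext fun r => ?_) ?_
    · have := AlgHom.congr_fun hβα (r ⊗ₜ[R] (1 : A))
      have h' := AlgHom.congr_fun hβf (α₂ (r ⊗ₜ[R] (1 : A)))
      simp [ψ, a₂] at this h' ⊢
      rw [h', this]
    · show (βf.comp ψ).comp Algebra.TensorProduct.includeRight = (AlgHom.id R _).comp (bc R' B₁)
      rw [AlgHom.comp_assoc, show Algebra.TensorProduct.includeRight = bc R' B₁ from rfl, lift_bc, AlgHom.id_comp]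
      refine hext₁ _ _ ?_ ?_
      · rw [AlgHom.comp_assoc, hbχ, ← AlgHom.comp_assoc, hβf, hβχ]
      · rw [AlgHom.comp_assoc, hbα]
        refine algHom_ext_af ?_
        show (βf.comp a₁).comp (loc A f) = ((bc R' B₁).comp α₁).comp (loc A f)
        rw [AlgHom.comp_assoc, ha₁, ← AlgHom.comp_assoc, ← AlgHom.comp_assoc, hβf, hβα,
          AlgHom.comp_assoc]
        exact map_comp_bc _
  -- the glued algebra
  have hfn : ∀ n : ℕ, Function.Bijective fun x : B₁ => f ^ n • x := fun n => by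
    simp only [Algebra.smul_def, map_pow]
    exact IsUnit.isUnit_iff_mulLeft_bijective.1 (hf₁.pow n)
  have hβR' : ∀ r : R', β (algebraMap R' B' r) = r ⊗ₜ[R] (1 : B₁) := fun r => by
    have := AlgHom.congr_fun hβα (r ⊗ₜ[R] (1 : A))
    simp [a₂] at this
    exact this
  let β' : B' →ₐ[R'] R' ⊗[R] B₁ := AlgHom.mk β.toRingHom hβR'
  have hβloc : ∀ z, ∃ (n : ℕ) (x : B'), β' x = f ^ n • z := by
    intro z
    obtain ⟨n, x, hx⟩ := IsLocalization.Away.surj (algebraMap R B' f) (ψ z)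
    refine ⟨n, x, ?_⟩
    have := congrArg βf hx
    rw [map_mul, map_pow, show βf (ψ z) = z from AlgHom.congr_fun hβψ z] at this
    rw [show βf (algebraMap B' D x) = β x from AlgHom.congr_fun hβf x,
      show βf (algebraMap B' D (algebraMap R B' f)) = β (algebraMap R B' f) from
        AlgHom.congr_fun hβf _, AlgHom.commutes] at this
    show β x = _
    rw [Algebra.smul_def, map_pow, ← this, mul_comm]
  have hβ0 : ∀ x, β' x = 0 → ∃ n : ℕ, f ^ n • x = 0 := by
    intro x hx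
    have h0 : ℓ x = 0 := by rw [← hψβ]; show ψ (β x) = 0; rw [show β x = 0 from hx, map_zero]
    obtain ⟨⟨_, n, rfl⟩, hn⟩ :=
      (IsLocalization.map_eq_zero_iff (Submonoid.powers (algebraMap R B' f)) D x).1 h0
    exact ⟨n, by rw [Algebra.smul_def, map_pow]; exact hn⟩
  let M := AlgHom.equalizer (β.comp (AlgHom.fst R B' B₁)) ((bc R' B₁).comp (AlgHom.snd R B' B₁))
  let q' : M →ₐ[R] B' := (AlgHom.fst R B' B₁).comp M.val
  let q₁ : M →ₐ[R] B₁ := (AlgHom.snd R B' B₁).comp M.val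
  obtain ⟨hloc, hbij, hM⟩ := H48.GlueExist.glue_main hg hfn β'.toLinearMap hβloc hβ0
    q'.toLinearMap q₁.toLinearMap (fun a b h1 h2 => Subtype.ext (Prod.ext h1 h2)) (fun m => m.2)
    (fun x y hxy => ⟨⟨(x, y), hxy⟩, rfl, rfl⟩)
  let γ : A →ₐ[R] M := AlgHom.codRestrict ((α₂.comp (bc R' A)).prod (α₁.comp (loc A f))) M fun a => by
    have := AlgHom.congr_fun hβα ((1 : R') ⊗ₜ[R] a)
    simp [a₂] at this
    exact this
  let χ : C →ₐ[R] M := AlgHom.codRestrict (χ₂.prod χ₁) M fun c => AlgHom.congr_fun hβχ c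
  have hqγ₁ : q₁.comp γ = α₁.comp (loc A f) := rfl
  have hqγ' : q'.comp γ = α₂.comp (bc R' A) := rfl
  -- identifications of the pieces of `M`
  letI : Algebra M B₁ := q₁.toRingHom.toAlgebra
  haveI : IsScalarTower R M B₁ := IsScalarTower.of_algebraMap_eq fun r => (q₁.commutes r).symm
  haveI hlocM : IsLocalization.Away (algebraMap R M f) B₁ := by
    have : IsLocalizedModule (Submonoid.powers f) (IsScalarTower.toAlgHom R M B₁).toLinearMap := hloc
    rw [isLocalizedModule_iff_isLocalization, Algebra.algebraMapSubmonoid, Submonoid.map_powers] at this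
    exact this
  let π : R' ⊗[R] M →ₐ[R'] B' :=
    Algebra.TensorProduct.lift (Algebra.ofId R' B') q' (fun _ _ => Commute.all _ _)
  have hπ : Function.Bijective π := by
    have h : ∀ t, π t = q'.toLinearMap.liftBaseChange R' t := by
      intro t
      induction t with
      | zero => simp
      | tmul r a => simp [π, Algebra.smul_def, LinearMap.liftBaseChange_tmul]
      | add a b ha hb => rw [map_add, map_add, ha, hb]
    rw [show (π : R' ⊗[R] M → B') = q'.toLinearMap.liftBaseChange R' from funext h]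
    exact hbij
  -- `M` is etale over `A`
  have hγ : γ.toRingHom.Etale := by
    refine (H48.GlueSetup.backward hg hA γ).2.2.2.2 ?_ ?_
    · let e : Localization.Away (γ.toRingHom (algebraMap R A f)) ≃+* B₁ :=
        haveI : IsLocalization.Away (γ.toRingHom (algebraMap R A f)) B₁ := by
          rw [show γ.toRingHom (algebraMap R A f) = algebraMap R M f from γ.commutes f]; exact hlocM
        (IsLocalization.algEquiv (Submonoid.powers (γ.toRingHom (algebraMap R A f))) _ B₁).toRingEquiv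
      have h : (Localization.awayMap γ.toRingHom (algebraMap R A f)) = e.symm.toRingHom.comp α₁.toRingHom := by
        refine IsLocalization.ringHom_ext (Submonoid.powers (algebraMap R A f)) (RingHom.ext fun a => ?_)
        apply e.injective
        simp only [RingHom.comp_apply, RingEquiv.toRingHom_eq_coe, RingEquiv.coe_toRingHom,
          RingEquiv.apply_symm_apply]
        rw [Localization.awayMap, IsLocalization.Away.map, IsLocalization.map_eq]
        simp [e]
        exact AlgHom.congr_fun hqγ₁ a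
      rw [h]
      exact RingHom.Etale.respectsIso.1 _ e.symm ((HasRingHomProperty.Spec_iff (P := @Etale)).1 het₁)
    · let e : R' ⊗[R] M ≃+* B' := RingEquiv.ofBijective π.toRingHom hπ
      have h : (Algebra.TensorProduct.map (AlgHom.id R R') γ).toRingHom = e.symm.toRingHom.comp α₂.toRingHom := by
        refine RingHom.ext fun t => e.injective ?_
        simp only [RingHom.comp_apply, RingEquiv.toRingHom_eq_coe, RingEquiv.coe_toRingHom,
          RingEquiv.apply_symm_apply]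
        induction t with
        | zero => simp
        | tmul r a =>
          show π (r ⊗ₜ[R] γ a) = α₂ (r ⊗ₜ[R] a)
          rw [Algebra.TensorProduct.lift_tmul, Algebra.ofId_apply, show q' (γ a) = α₂ ((1 : R') ⊗ₜ[R] a) from AlgHom.congr_fun hqγ' a]
          show α₂ (r ⊗ₜ[R] (1 : A)) * α₂ ((1 : R') ⊗ₜ[R] a) = _
          rw [← map_mul, Algebra.TensorProduct.tmul_mul_tmul, _root_.mul_one, _root_.one_mul]
        | add a b ha hb => simp only [map_add, ha, hb]
      rw [h]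
      exact RingHom.Etale.respectsIso.1 _ e.symm ((HasRingHomProperty.Spec_iff (P := @Etale)).1 het₂)
  let s : (yon (B R)).obj (O R M) ⟶ Z := (yon (B R)).map (sp χ) ≫ w
  have hs₁ : (yon (B R)).map (sp q₁) ≫ s = (yon (B R)).map (sp α₁) ≫ u₁ := by
    rw [← yon_sp_comp, show q₁.comp χ = χ₁ from rfl, sq₁.w]
  have hs' : (yon (B R)).map (sp q') ≫ s = (yon (B R)).map (sp α₂) ≫ u₂ := by
    rw [← yon_sp_comp, show q'.comp χ = χ₂ from rfl, sq₂.w]
  -- `Spec M → Spec A` is a cover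
  have hcov : Lib.AlgSpace.fppfCover (sp γ).left := by
    haveI : Etale (sp γ).left := (HasRingHomProperty.Spec_iff (P := @Etale)).2 hγ
    refine ⟨⟨⟨fun p => ?_⟩, inferInstance⟩, inferInstance⟩
    by_cases hp : algebraMap R A f ∈ PrimeSpectrum.asIdeal p
    · obtain ⟨t, ht⟩ := exists_lift_prime hg.1 p hp
      obtain ⟨c, hc⟩ := hK (Or.inr ⟨t, rfl⟩)
      obtain ⟨r, -, hr⟩ := (Lib.AlgSpace.ofPt_eq_ofPt_iff_of_isPullback sq₂ c t).1 hc
      refine ⟨(sp q').left r, ?_⟩
      rw [← Scheme.Hom.comp_apply, ← Over.comp_left, ← sp_comp, hqγ', sp_comp, Over.comp_left,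
        Scheme.Hom.comp_apply, hr]
      exact ht
    · obtain ⟨t, ht⟩ : p ∈ Set.range (PrimeSpectrum.comap (algebraMap A (Af A f))) := by
        rw [PrimeSpectrum.localization_away_comap_range (Af A f) (algebraMap R A f)]; exact hp
      obtain ⟨c, hc⟩ := hK (Or.inl ⟨t, rfl⟩)
      obtain ⟨r, -, hr⟩ := (Lib.AlgSpace.ofPt_eq_ofPt_iff_of_isPullback sq₁ c t).1 hc
      refine ⟨(sp q₁).left r, ?_⟩
      rw [← Scheme.Hom.comp_apply, ← Over.comp_left, ← sp_comp, hqγ₁, sp_comp, Over.comp_left,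
        Scheme.Hom.comp_apply, hr]
      exact ht
  have surj₁ : Lib.AlgSpace.fppfCover (sp α₁).left := by
    refine ⟨⟨⟨fun t => ?_⟩, inferInstance⟩, inferInstance⟩
    obtain ⟨c, hc⟩ := hK (Or.inl ⟨t, rfl⟩)
    obtain ⟨r, -, hr⟩ := (Lib.AlgSpace.ofPt_eq_ofPt_iff_of_isPullback sq₁ c t).1 hc
    exact ⟨r, hr⟩
  have surj₂ : Lib.AlgSpace.fppfCover (sp α₂).left := by
    refine ⟨⟨⟨fun t => ?_⟩, inferInstance⟩, inferInstance⟩
    obtain ⟨c, hc⟩ := hK (Or.inr ⟨t, rfl⟩)
    obtain ⟨r, -, hr⟩ := (Lib.AlgSpace.ofPt_eq_ofPt_iff_of_isPullback sq₂ c t).1 hc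
    exact ⟨r, hr⟩
  haveI := Lib.AlgSpace.epi_yon_map _ surj₁
  haveI := Lib.AlgSpace.epi_yon_map _ surj₂
  exact descend_glue hg hZ hM γ hγ q₁ q' hlocM π (fun m => by simp [π]) hπ hqγ₁ hqγ' (fun _ => rfl) s u₁ u₂ hs₁ hs' hcov

end Groth.Agent.Lib.AlgSpGlue
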