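import Groth.Agent.H48.Glue
import Groth.Prelude.Def_AlgSp2
import Mathlib.RingTheory.Flat.Stability
import Mathlib.LinearAlgebra.TensorProduct.Prod
import Mathlib.AlgebraicGeometry.Morphisms.Flat

/-!
# Glueable algebras along a glueing pair and flat maps

* `glueable_iff`: for a glueing pair, glueability is injectivity on torsion;
* `torsion_eq_zero_of_flat`: that condition passes to flat algebras;
* `eq_zero_of_flat_cover`: an element vanishing on a flat cover vanishes.
-/

universe u

open TensorProduct

namespace Groth.Agent.Lib.AlgSpGlue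

variable {R R' : Type u} [CommRing R] [CommRing R'] [Algebra R R'] {f : R}

/-- The torsion condition. -/
def TorsInj (R R' : Type u) [CommRing R] [CommRing R'] [Algebra R R'] (f : R) (M : Type u)
    [AddCommGroup M] [Module R M] : Prop :=
  ∀ m : M, (∃ n : ℕ, f ^ n • m = 0) → (1 : R') ⊗ₜ[R] m = 0 → m = 0

theorem glueable_iff (hg : EtGlue.IsGlueingPair R R' f) {M : Type u} [AddCommGroup M]
    [Module R M] : EtGlue.IsGlueable R R' f M ↔ TorsInj R R' f M := by
  refine ⟨fun h => (H48.Glue.torsion_of_isGlueable h).1,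
    fun h => H48.Glue.isGlueable_of_torsion hg.1 h ?_⟩
  rintro x ⟨n, hn⟩
  obtain ⟨m, hm, hmx⟩ := H48.Glue.exists_torsion_preimage hg.1
    (H48.Glue.torsionBij_of_isGlueingPair hg) hn
  exact ⟨m, ⟨n, hm⟩, hmx⟩

theorem torsion_eq_zero_of_flat {A B : Type u} [CommRing A] [CommRing B] [Algebra R A] [Algebra R B]
    [Algebra A B] [IsScalarTower R A B] [Module.Flat A B] (hA : TorsInj R R' f A) :
    TorsInj R R' f B := by
  rintro b ⟨n, hn⟩ hb
  let g : A →ₗ[A] A × (A ⊗[R] R') :=
    (LinearMap.lsmul A A (algebraMap R A (f ^ n))).prod (Algebra.linearMap A (A ⊗[R] R'))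
  have hg : Function.Injective g := by
    rw [injective_iff_map_eq_zero]
    intro a ha
    simp only [g, LinearMap.prod_apply, Prod.ext_iff, Function.prod_apply, Prod.fst_zero,
      Prod.snd_zero, LinearMap.lsmul_apply, Algebra.linearMap_apply] at ha
    refine hA a ⟨n, by rw [← ha.1, algebraMap_smul]⟩ ?_
    have := congrArg (TensorProduct.comm R A R') ha.2
    simpa using this
  have h := Module.Flat.lTensor_preserves_injective_linearMap (M := B) g hg
  have h0 : b ⊗ₜ[A] (1 : A) = 0 := by
    refine h ?_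
    rw [map_zero, LinearMap.lTensor_tmul]
    apply (TensorProduct.prodRight A A B A (A ⊗[R] R')).injective
    rw [map_zero, TensorProduct.prodRight_tmul]
    refine Prod.ext ?_ ?_
    · show b ⊗ₜ[A] ((algebraMap R A (f ^ n)) • (1 : A)) = 0
      rw [← TensorProduct.smul_tmul, algebraMap_smul, hn, TensorProduct.zero_tmul]
    · show b ⊗ₜ[A] ((1 : A) ⊗ₜ[R] (1 : R')) = 0
      apply (TensorProduct.AlgebraTensorModule.cancelBaseChange R A B B R').injective
      rw [map_zero, TensorProduct.AlgebraTensorModule.cancelBaseChange_tmul, one_smul]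
      have := congrArg (TensorProduct.comm R R' B) hb
      simpa using this
  simpa using congrArg (TensorProduct.rid A B) h0

theorem eq_zero_of_flat_cover {A : Type u} [CommRing A] (m : A)
    (h : ∀ p : PrimeSpectrum A, ∃ (B : Type u) (_ : CommRing B) (φ : A →+* B),
      φ.Flat ∧ (∃ q : PrimeSpectrum B, PrimeSpectrum.comap φ q = p) ∧ φ m = 0) : m = 0 := by
  let I : Ideal A := LinearMap.ker (LinearMap.mulRight A m)
  suffices I = ⊤ by
    have h1 : (1 : A) ∈ I := this ▸ Submodule.mem_top
    simpa [I] using h1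
  by_contra hI
  obtain ⟨M, hM, hle⟩ := Ideal.exists_le_maximal I hI
  obtain ⟨B, _, φ, hφ, ⟨q, hq⟩, hm⟩ := h ⟨M, hM.isPrime⟩
  letI := φ.toAlgebra
  haveI : Module.Flat A B := hφ
  have hex := Module.Flat.lTensor_exact B
    (LinearMap.exact_subtype_ker_map (LinearMap.mulRight A m))
  have h1 : (LinearMap.mulRight A m).lTensor B ((1 : B) ⊗ₜ[A] (1 : A)) = 0 := by
    apply (TensorProduct.rid A B).injective
    simp [Algebra.smul_def, RingHom.algebraMap_toAlgebra, hm]
  obtain ⟨t, ht⟩ := (hex _).1 h1
  have key : ∀ t : B ⊗[A] I, TensorProduct.rid A B (I.subtype.lTensor B t) ∈ q.asIdeal := by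
    intro t
    induction t using TensorProduct.induction_on with
    | zero => simp
    | tmul b i =>
      rw [LinearMap.lTensor_tmul, TensorProduct.rid_tmul, Algebra.smul_def]
      refine q.asIdeal.mul_mem_right _ ?_
      have : (i : A) ∈ (PrimeSpectrum.comap φ q).asIdeal := by
        rw [hq]
        exact hle i.2
      exact this
    | add x y hx hy => simpa using q.asIdeal.add_mem hx hy
  refine q.isPrime.ne_top ((Ideal.eq_top_iff_one _).2 ?_)
  have := key t
  rw [show I.subtype.lTensor B t = (1 : B) ⊗ₜ[A] (1 : A) from ht, TensorProduct.rid_tmul,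
    one_smul] at this
  exact this

end Groth.Agent.Lib.AlgSpGlue
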