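import Mathlib.AlgebraicGeometry.ZariskisMainTheorem
import Mathlib.AlgebraicGeometry.QuasiAffine
import Mathlib.RingTheory.Localization.Away.Basic

/-!
# Sections of monomorphisms onto a glued affine scheme

`exists_section_of_glue`: a monomorphism locally of finite type to `Spec A` through which
`Spec A_g` and `Spec A'` factor has a section, when `A` glues from `A_g` and `A'`.
-/

universe u

open CategoryTheory AlgebraicGeometry

namespace Groth.Agent.Lib.AlgSpGlue

theorem exists_section_of_glue {A A' : CommRingCat.{u}} (g : A) (i : A ⟶ A') {E : Scheme.{u}}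
    (e : E ⟶ Spec A) [Mono e] [LocallyOfFiniteType e]
    (hinj : ∀ a : A, (∃ n : ℕ, g ^ n * a = 0) → i.hom a = 0 → a = 0)
    (hex : ∀ (x : A') (a₀ : A) (n k : ℕ), i.hom g ^ k * (i.hom g ^ n * x) = i.hom g ^ k * i.hom a₀ →
      ∃ a : A, i.hom a = x ∧ ∃ j : ℕ, g ^ j * (g ^ n * a) = g ^ j * a₀)
    (hcov : ∀ p : PrimeSpectrum A, g ∈ p.asIdeal → ∃ q : PrimeSpectrum A', PrimeSpectrum.comap i.hom q = p)
    (u₁ : Spec (CommRingCat.of (Localization.Away g)) ⟶ E)
    (h₁ : u₁ ≫ e = Spec.map (CommRingCat.ofHom (algebraMap A (Localization.Away g))))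
    (u₂ : Spec A' ⟶ E) (h₂ : u₂ ≫ e = Spec.map i) :
    ∃ σ : Spec A ⟶ E, σ ≫ e = 𝟙 _ := by
  let l : A ⟶ CommRingCat.of (Localization.Away g) := CommRingCat.ofHom (algebraMap A (Localization.Away g))
  have hsurj : ∀ p : PrimeSpectrum A, (∃ q, Spec.map l q = p) ∨ ∃ q, Spec.map i q = p := by
    intro p
    by_cases hp : g ∈ p.asIdeal
    · exact Or.inr (hcov p hp)
    · refine Or.inl ?_
      show p ∈ Set.range (PrimeSpectrum.comap (algebraMap A (Localization.Away g)))
      rw [PrimeSpectrum.localization_away_comap_range (Localization.Away g) g]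
      exact hp
  have hcompact : CompactSpace ↥E := by
    refine ⟨?_⟩
    have : (Set.univ : Set ↥E) = Set.range u₁ ∪ Set.range u₂ := by
      refine Set.eq_univ_of_forall (fun x => ?_) |>.symm
      obtain ⟨q, hq⟩ | ⟨q, hq⟩ := hsurj (e x)
      · exact Or.inl ⟨q, e.injective (by rw [← Scheme.Hom.comp_apply, h₁]; exact hq)⟩
      · exact Or.inr ⟨q, e.injective (by rw [← Scheme.Hom.comp_apply, h₂]; exact hq)⟩
    rw [this]
    exact (isCompact_range u₁.continuous).union (isCompact_range u₂.continuous)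
  haveI : QuasiCompact e := (quasiCompact_iff_compactSpace e).2 hcompact
  haveI : LocallyQuasiFinite e := LocallyQuasiFinite.of_injective e.injective
  haveI : IsAffine e.normalization := isAffine_of_isAffineHom e.fromNormalization
  haveI : E.IsQuasiAffine := Scheme.IsQuasiAffine.of_isImmersion e.toNormalization
  let r₁ : Γ(E, ⊤) ⟶ CommRingCat.of (Localization.Away g) := u₁.appTop ≫ (Scheme.ΓSpecIso _).hom
  let r₂ : Γ(E, ⊤) ⟶ A' := u₂.appTop ≫ (Scheme.ΓSpecIso _).hom
  have hu₁ : u₁ ≫ E.toSpecΓ = Spec.map r₁ := by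
    rw [Scheme.toSpecΓ_naturality, Spec.map_comp, SpecMap_ΓSpecIso_hom]
  have hu₂ : u₂ ≫ E.toSpecΓ = Spec.map r₂ := by
    rw [Scheme.toSpecΓ_naturality, Spec.map_comp, SpecMap_ΓSpecIso_hom]
  let c : A ⟶ Γ(E, ⊤) := (Scheme.ΓSpecIso A).inv ≫ e.appTop
  have hc : E.toSpecΓ ≫ Spec.map c = e := by
    rw [Spec.map_comp, ← Scheme.toSpecΓ_naturality_assoc, ← SpecMap_ΓSpecIso_hom, ← Spec.map_comp,
      Iso.inv_hom_id, Spec.map_id, Category.comp_id]
  have hc₁ : c ≫ r₁ = l := Spec.map_injective (by rw [Spec.map_comp, ← hu₁, Category.assoc, hc, h₁])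
  have hc₂ : c ≫ r₂ = i := Spec.map_injective (by rw [Spec.map_comp, ← hu₂, Category.assoc, hc, h₂])
  let F : A →+* Localization.Away g × A' := l.hom.prod i.hom
  have hF : Function.Injective F := by
    rw [injective_iff_map_eq_zero]
    intro a ha
    refine hinj a ?_ (congrArg Prod.snd ha)
    obtain ⟨⟨_, n, rfl⟩, hn⟩ := (IsLocalization.map_eq_zero_iff (Submonoid.powers g) _ a).1
      (show algebraMap A (Localization.Away g) a = 0 from congrArg Prod.fst ha)
    exact ⟨n, hn⟩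
  let L := Localization.Away (i.hom g)
  have hL : ∀ a : A, Localization.awayMap i.hom g (algebraMap A (Localization.Away g) a) = algebraMap A' L (i.hom a) := fun a => by
    simp [Localization.awayMap, IsLocalization.Away.map, L]
  have key : (Localization.awayMap i.hom g).comp r₁.hom = (algebraMap A' L).comp r₂.hom := by
    have : r₁ ≫ CommRingCat.ofHom (Localization.awayMap i.hom g) = r₂ ≫ CommRingCat.ofHom (algebraMap A' L) := by
      apply Spec.map_injective
      rw [Spec.map_comp r₁, Spec.map_comp r₂, ← hu₁, ← hu₂, ← Category.assoc, ← Category.assoc]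
      refine congrArg (· ≫ E.toSpecΓ) ((cancel_mono e).1 ?_)
      rw [Category.assoc, Category.assoc, h₁, h₂, ← Spec.map_comp, ← Spec.map_comp]
      congr 1
      ext a
      exact hL a
    exact congrArg CommRingCat.Hom.hom this
  have hmem : ∀ s : Γ(E, ⊤), ∃ a : A, F a = (r₁.hom s, r₂.hom s) := by
    intro s
    obtain ⟨n, a₀, ha⟩ := IsLocalization.Away.surj g (r₁.hom s)
    have h := congrArg (Localization.awayMap i.hom g) ha
    rw [map_mul, map_pow] at h
    rw [show Localization.awayMap i.hom g (r₁.hom s) = algebraMap A' L (r₂.hom s) from RingHom.congr_fun key s,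
      hL, hL,
      ← map_pow, ← map_mul] at h
    obtain ⟨⟨_, k, rfl⟩, hk⟩ := (IsLocalization.eq_iff_exists (Submonoid.powers (i.hom g)) L).1 h
    obtain ⟨a, ha₂, j, hj⟩ := hex (r₂.hom s) a₀ n k (by rw [mul_comm (i.hom g ^ n)]; exact hk)
    refine ⟨a, Prod.ext ?_ ha₂⟩
    show algebraMap A (Localization.Away g) a = r₁.hom s
    have hu : IsUnit (algebraMap A (Localization.Away g) g) := IsLocalization.Away.algebraMap_isUnit g
    have := congrArg (algebraMap A (Localization.Away g)) hj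
    simp only [map_mul, map_pow] at this
    rw [(hu.pow j).mul_right_inj, ← ha, mul_comm (r₁.hom s)] at this
    exact (hu.pow n).mul_right_inj.1 this
  have hr : ∀ s : Γ(E, ⊤), (r₁.hom.prod r₂.hom) s ∈ F.range := fun s => hmem s
  let e₀ : A ≃+* F.range := RingEquiv.ofBijective F.rangeRestrict
    ⟨fun a b h => hF (congrArg Subtype.val h), F.rangeRestrict_surjective⟩
  let ρ : Γ(E, ⊤) ⟶ A := CommRingCat.ofHom
    (e₀.symm.toRingHom.comp ((r₁.hom.prod r₂.hom).codRestrict F.range hr))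
  have hρ : ∀ s, F (ρ.hom s) = (r₁.hom s, r₂.hom s) := fun s =>
    congrArg Subtype.val (e₀.apply_symm_apply ⟨_, hr s⟩)
  have hρ₁ : ρ ≫ l = r₁ := by ext s; exact congrArg Prod.fst (hρ s)
  have hρ₂ : ρ ≫ i = r₂ := by ext s; exact congrArg Prod.snd (hρ s)
  have hcρ : c ≫ ρ = 𝟙 A := by
    ext a
    refine hF ((hρ (c.hom a)).trans (Prod.ext ?_ ?_))
    · exact RingHom.congr_fun (congrArg CommRingCat.Hom.hom hc₁) a
    · exact RingHom.congr_fun (congrArg CommRingCat.Hom.hom hc₂) a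
  refine ⟨IsOpenImmersion.lift E.toSpecΓ (Spec.map ρ) ?_, ?_⟩
  · rintro _ ⟨p, rfl⟩
    obtain ⟨q, rfl⟩ | ⟨q, rfl⟩ := hsurj p
    · exact ⟨u₁ q, by rw [← Scheme.Hom.comp_apply, hu₁, ← hρ₁, Spec.map_comp, Scheme.Hom.comp_apply]⟩
    · exact ⟨u₂ q, by rw [← Scheme.Hom.comp_apply, hu₂, ← hρ₂, Spec.map_comp, Scheme.Hom.comp_apply]⟩
  · calc _ = IsOpenImmersion.lift E.toSpecΓ (Spec.map ρ) _ ≫ E.toSpecΓ ≫ Spec.map c := by rw [hc]
      _ = Spec.map ρ ≫ Spec.map c := by rw [IsOpenImmersion.lift_fac_assoc]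
      _ = 𝟙 _ := by rw [← Spec.map_comp, hcρ, Spec.map_id]

end Groth.Agent.Lib.AlgSpGlue
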