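import Groth.Prelude.Def_AlgSp3
import Groth.Agent.Lib.AlgSpGlue.Basic
import Groth.Agent.Lib.AlgSpGlue.Section
import Groth.Agent.Lib.AlgSpace.DescendRep
import Groth.Agent.Lib.AlgSpace.Points

/-!
# Affine schemes over `Spec R` as spaces, and equality along a glueing pair

* `O A`, `sp φ`: `Spec` of an algebra, of an algebra map;
* `eq_of_agree`: maps from a glueable affine scheme to a space agreeing on both pieces are equal;
* `exists_affine_pullback`: fibre products of affine schemes over a space with affine diagonal.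
-/

universe u

open CategoryTheory CategoryTheory.Limits AlgebraicGeometry TensorProduct
open AlgSp (Sp yon RepWith IsAlgSpace Points)

namespace Groth.Agent.Lib.AlgSpGlue

variable {R : Type u} [CommRing R]

/-- The base. -/
noncomputable abbrev B (R : Type u) [CommRing R] : Scheme.{u} := Spec (CommRingCat.of R)

/-- `Spec A` over `Spec R`. -/
noncomputable abbrev O (R A : Type u) [CommRing R] [CommRing A] [Algebra R A] : Over (B R) :=
  Over.mk (Spec.map (CommRingCat.ofHom (algebraMap R A)))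

variable {A A₂ A₃ : Type u} [CommRing A] [Algebra R A] [CommRing A₂] [Algebra R A₂]
  [CommRing A₃] [Algebra R A₃]

/-- `Spec` of an algebra map over `Spec R`. -/
noncomputable abbrev sp (φ : A →ₐ[R] A₂) : O R A₂ ⟶ O R A :=
  Over.homMk (Spec.map (CommRingCat.ofHom φ.toRingHom)) (by
    show _ ≫ Spec.map _ = Spec.map _
    rw [← Spec.map_comp, ← CommRingCat.ofHom_comp]
    exact congrArg (fun r => Spec.map (CommRingCat.ofHom r)) φ.comp_algebraMap)

theorem sp_comp (φ : A →ₐ[R] A₂) (ψ : A₂ →ₐ[R] A₃) : sp (ψ.comp φ) = sp ψ ≫ sp φ :=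
  Over.OverMorphism.ext (Spec.map_comp (CommRingCat.ofHom φ.toRingHom) (CommRingCat.ofHom ψ.toRingHom))

theorem yon_sp_comp {F : Sp (B R)} (φ : A →ₐ[R] A₂) (ψ : A₂ →ₐ[R] A₃)
    (x : (yon (B R)).obj (O R A) ⟶ F) :
    (yon (B R)).map (sp (ψ.comp φ)) ≫ x = (yon (B R)).map (sp ψ) ≫ (yon (B R)).map (sp φ) ≫ x := by
  rw [sp_comp, Functor.map_comp, Category.assoc]

theorem sp_id : sp (AlgHom.id R A) = 𝟙 (O R A) :=
  Over.OverMorphism.ext (Spec.map_id (CommRingCat.of A))

theorem exists_sp (k : O R A₂ ⟶ O R A) : ∃ φ : A →ₐ[R] A₂, sp φ = k := by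
  obtain ⟨φ, hφ⟩ := Spec.map_surjective (R := CommRingCat.of A) (S := CommRingCat.of A₂) k.left
  have h : φ.hom.comp (algebraMap R A) = algebraMap R A₂ := by
    have : CommRingCat.ofHom (algebraMap R A) ≫ φ = CommRingCat.ofHom (algebraMap R A₂) := by
      apply Spec.map_injective
      rw [Spec.map_comp, hφ]
      exact Over.w k
    exact congrArg CommRingCat.Hom.hom this
  exact ⟨AlgHom.mk φ.hom (RingHom.congr_fun h), Over.OverMorphism.ext hφ⟩

theorem sp_injective {φ ψ : A →ₐ[R] A₂} (h : sp φ = sp ψ) : φ = ψ :=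
  AlgHom.ext fun a => RingHom.congr_fun (congrArg CommRingCat.Hom.hom
    (Spec.map_injective (congrArg CommaMorphism.left h : Spec.map (CommRingCat.ofHom φ.toRingHom) =
      Spec.map (CommRingCat.ofHom ψ.toRingHom)))) a

variable {R' : Type u} [CommRing R'] [Algebra R R'] {f : R}

/-- The localization of `A` at the image of `f`. -/
abbrev Af (A : Type u) [CommRing A] [Algebra R A] (f : R) : Type u :=
  Localization.Away (algebraMap R A f)

/-- The map to the localization. -/
noncomputable abbrev loc (A : Type u) [CommRing A] [Algebra R A] (f : R) : A →ₐ[R] Af A f :=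
  IsScalarTower.toAlgHom R A (Af A f)

/-- The map to the base change. -/
noncomputable abbrev bc (R' A : Type u) [CommRing R'] [Algebra R R'] [CommRing A] [Algebra R A] :
    A →ₐ[R] R' ⊗[R] A :=
  Algebra.TensorProduct.includeRight

/-- The points of `V(f)` lift to `R' ⊗ A`. -/
theorem exists_lift_prime (hq : EtGlue.QuotPowBijective R R' f) (p : PrimeSpectrum A)
    (hp : algebraMap R A f ∈ p.asIdeal) :
    ∃ q : PrimeSpectrum (R' ⊗[R] A), PrimeSpectrum.comap (bc R' A).toRingHom q = p := by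
  let I : Ideal R := Ideal.span {f ^ 1}
  let J : Ideal R' := Ideal.map (algebraMap R R') I
  let π : A →ₐ[R] A ⧸ p.asIdeal := Ideal.Quotient.mkₐ R p.asIdeal
  have hI : ∀ a ∈ I, algebraMap R (A ⧸ p.asIdeal) a = 0 := by
    intro a ha
    obtain ⟨c, rfl⟩ := Ideal.mem_span_singleton'.1 ha
    rw [map_mul, pow_one, IsScalarTower.algebraMap_apply R A (A ⧸ p.asIdeal) f,
      Ideal.Quotient.algebraMap_eq, Ideal.Quotient.eq_zero_iff_mem.2 hp, mul_zero]
  let e₁ := RingEquiv.ofBijective _ (hq 1 one_pos)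
  let β₀ : R' →+* A ⧸ p.asIdeal :=
    (Ideal.Quotient.lift I (algebraMap R (A ⧸ p.asIdeal)) hI).comp
      (e₁.symm.toRingHom.comp (Ideal.Quotient.mk J))
  let β : R' →ₐ[R] A ⧸ p.asIdeal := AlgHom.mk β₀ fun r => by
        have : e₁.symm (Ideal.Quotient.mk J (algebraMap R R' r)) = Ideal.Quotient.mk I r := by
          rw [RingEquiv.symm_apply_eq]
          rfl
        show Ideal.Quotient.lift I _ hI (e₁.symm (Ideal.Quotient.mk J (algebraMap R R' r))) = _
        rw [this, Ideal.Quotient.lift_mk]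
  let ψ := Algebra.TensorProduct.lift β π (fun _ _ => Commute.all _ _)
  refine ⟨⟨RingHom.ker ψ.toRingHom, RingHom.ker_isPrime _⟩, PrimeSpectrum.ext ?_⟩
  ext a
  show ψ ((1 : R') ⊗ₜ[R] a) = 0 ↔ _
  rw [Algebra.TensorProduct.lift_tmul, map_one, _root_.one_mul]
  exact Ideal.Quotient.eq_zero_iff_mem

/-- Maps from a glueable affine scheme to a space agreeing on both pieces are equal. -/
theorem eq_of_agree (hg : EtGlue.IsGlueingPair R R' f) {Z : Sp (B R)} (hZ : IsAlgSpace Z)
    (hA : EtGlue.IsGlueable R R' f A) (x y : (yon (B R)).obj (O R A) ⟶ Z)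
    (h₁ : (yon (B R)).map (sp (loc A f)) ≫ x = (yon (B R)).map (sp (loc A f)) ≫ y)
    (h₂ : (yon (B R)).map (sp (bc R' A)) ≫ x = (yon (B R)).map (sp (bc R' A)) ≫ y) : x = y := by
  obtain ⟨V, v, fst, sq, hv⟩ := Lib.AlgSpace.repWith_exists
    (Lib.AlgSpace.repWith_diag_locallyOfFiniteType hZ) (prod.lift x y)
  haveI : Mono v.left :=
    Lib.AlgSpace.repWith_property (Lib.AlgSpace.repWith_diag_monomorphisms hZ.diag) sq
  haveI : LocallyOfFiniteType v.left := hv
  have lift_of : ∀ {T₀ : Over (B R)} (k : T₀ ⟶ O R A),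
      (yon _).map k ≫ x = (yon _).map k ≫ y → ∃ u : T₀ ⟶ V, u ≫ v = k := by
    intro T₀ k hk
    obtain ⟨u, hu⟩ := (yon _).map_surjective (sq.lift ((yon _).map k ≫ x) ((yon _).map k) (by
      refine Limits.prod.hom_ext ?_ ?_ <;> simp [hk]))
    refine ⟨u, (yon _).map_injective ?_⟩
    rw [Functor.map_comp, hu, sq.lift_snd]
  obtain ⟨u₁, hu₁⟩ := lift_of (sp (loc A f)) h₁
  obtain ⟨u₂, hu₂⟩ := lift_of (sp (bc R' A)) h₂
  let g : A := algebraMap R A f
  let i : A →+* R' ⊗[R] A := (bc R' A).toRingHom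
  have hinj : ∀ a : A, (∃ n : ℕ, g ^ n * a = 0) → i a = 0 → a = 0 := by
    rintro a ⟨n, hn⟩ ha
    exact (glueable_iff hg).1 hA a ⟨n, by rw [Algebra.smul_def, map_pow]; exact hn⟩ ha
  have hex : ∀ (z : R' ⊗[R] A) (a₀ : A) (n k : ℕ), i g ^ k * (i g ^ n * z) = i g ^ k * i a₀ →
      ∃ c : A, i c = z ∧ ∃ j : ℕ, g ^ j * (g ^ n * c) = g ^ j * a₀ := by
    intro z a₀ n k hk
    have hk' : f ^ k • ((1 : R') ⊗ₜ[R] a₀) = f ^ k • f ^ n • z := by
      have hi : i g = algebraMap R (R' ⊗[R] A) f := AlgHom.commutes _ f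
      rw [Algebra.smul_def, Algebra.smul_def, Algebra.smul_def, map_pow, map_pow, ← hi]
      exact hk.symm
    obtain ⟨c, hc₁, hc₂⟩ := hA.2 z (LocalizedModule.mk a₀ (H48.Glue.pw f n)) (by
      rw [H48.Glue.tensorOfLoc_mk]
      show LocalizedModule.mkLinearMap _ _ z = _
      rw [LocalizedModule.mkLinearMap_apply]
      refine LocalizedModule.mk_eq.2 ⟨H48.Glue.pw f k, ?_⟩
      simp only [Submonoid.smul_def, one_smul]
      exact hk'.symm)
    rw [LocalizedModule.mkLinearMap_apply] at hc₂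
    obtain ⟨⟨_, j, rfl⟩, hj⟩ := LocalizedModule.mk_eq.1 hc₂
    simp only [Submonoid.smul_def, one_smul] at hj
    refine ⟨c, hc₁, j, ?_⟩
    rw [Algebra.smul_def, Algebra.smul_def, Algebra.smul_def, map_pow, map_pow] at hj
    exact hj
  obtain ⟨σ, hσ⟩ := exists_section_of_glue (A := CommRingCat.of A)
    (A' := CommRingCat.of (R' ⊗[R] A)) g (CommRingCat.ofHom i) v.left hinj hex
    (fun q hq => exists_lift_prime hg.1 q hq)
    u₁.left (congrArg CommaMorphism.left hu₁) u₂.left (congrArg CommaMorphism.left hu₂)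
  let s : O R A ⟶ V := Over.homMk σ (by
    rw [← Over.w v, ← Category.assoc, hσ]
    exact Category.id_comp _)
  have hs : s ≫ v = 𝟙 (O R A) := Over.OverMorphism.ext hσ
  have e := congrArg ((yon _).map s ≫ ·) sq.w
  rw [← Category.assoc ((yon _).map s) ((yon _).map v), ← Functor.map_comp, hs,
    CategoryTheory.Functor.map_id, Category.id_comp] at e
  have e₁ := congrArg (· ≫ Limits.prod.fst) e
  have e₂ := congrArg (· ≫ Limits.prod.snd) e
  simp at e₁ e₂
  rw [Limits.prod.lift_fst, Limits.prod.lift_fst] at e₁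
  rw [Limits.prod.lift_snd, Limits.prod.lift_snd] at e₂
  exact e₁.symm.trans e₂

/-- An affine scheme over `Spec R` is a `Spec` of an algebra. -/
theorem exists_iso_O (W : Over (B R)) [IsAffine W.left] :
    ∃ (C : Type u) (_ : CommRing C) (_ : Algebra R C), Nonempty (O R C ≅ W) := by
  let φ : CommRingCat.of R ⟶ Γ(W.left, ⊤) := Spec.preimage (W.left.isoSpec.inv ≫ W.hom)
  letI : Algebra R Γ(W.left, ⊤) := φ.hom.toAlgebra
  exact ⟨Γ(W.left, ⊤), inferInstance, inferInstance,
    ⟨Over.isoMk W.left.isoSpec.symm (Spec.map_preimage _).symm⟩⟩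

/-- Fibre products of affine schemes over a space with affine diagonal are affine. -/
theorem exists_affine_pullback {Z : Sp (B R)} (hZ : IsAlgSpace Z)
    (hd : AlgSp.IsAffineMor (Limits.diag Z)) {C D : Type u} [CommRing C] [Algebra R C] [CommRing D]
    [Algebra R D] (w : (yon (B R)).obj (O R C) ⟶ Z) (u : (yon (B R)).obj (O R D) ⟶ Z) :
    ∃ (P : Type u) (_ : CommRing P) (_ : Algebra R P) (χ : C →ₐ[R] P) (α : D →ₐ[R] P),
      IsPullback ((yon (B R)).map (sp χ)) ((yon (B R)).map (sp α)) w u := by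
  obtain ⟨P₀, p, q, sq⟩ := Lib.AlgSpace.exists_isPullback_yon hZ.diag w u
  haveI : IsAffine (O R C).left := inferInstanceAs (IsAffine (Spec _))
  haveI : IsAffine (O R D).left := inferInstanceAs (IsAffine (Spec _))
  have haff : IsAffine (O R C ⨯ O R D).left := IsAffine.of_isIso (Over.prodLeftIsoPullback _ _).hom
  obtain ⟨W, i, fst, sqW, hW⟩ := hd haff (Lib.AlgSpace.yonProdMap w u)
  have sq' := Lib.AlgSpace.isPullback_diag_yonProd sq
  let e : P₀ ≅ W := (yon (B R)).preimageIso (sq'.isoIsPullback _ _ sqW)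
  haveI : IsAffine ((Over.forget (B R)).obj W) := hW
  haveI : IsAffine P₀.left := IsAffine.of_isIso ((Over.forget _).mapIso e).hom
  obtain ⟨P, _, _, ⟨j⟩⟩ := exists_iso_O P₀
  obtain ⟨χ, hχ⟩ := exists_sp (j.hom ≫ p)
  obtain ⟨α, hα⟩ := exists_sp (j.hom ≫ q)
  refine ⟨P, inferInstance, inferInstance, χ, α, ?_⟩
  rw [hχ, hα]
  exact sq.of_iso ((yon (B R)).mapIso j.symm) (Iso.refl _) (Iso.refl _) (Iso.refl _)
    (by simp [← Functor.map_comp]) (by simp [← Functor.map_comp])
    (by simp) (by simp)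

end Groth.Agent.Lib.AlgSpGlue
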